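import Cfsg.Agent.MonsterU.CoFrameF
import Cfsg.Agent.MonsterU.CoFrameL2
import Cfsg.Agent.MonsterU.Fused
import Cfsg.Agent.MonsterU.InvPairQ
import Cfsg.Agent.S0404
import Cfsg.Agent.S0376

/-!
# 2-subgroups of `Co1` fixing a hyperbolic pair with a member of type 2 (helper692, ORB of 2.B, S2491/S2492)

`card_le` : a 2-subgroup of `Co1` fixing `v` of type 2 and `x` with `bf x v = 1` has order at most `2 ^ 7`.
-/

set_option autoImplicit false

namespace Cfsg.Agent.H692.TwoB

open Cfsg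
open Cfsg.Agent.SporadicA
open Cfsg.Agent.SporadicA.Co0Mono hiding smul_add smul_sub smul_neg smul_zero
open Cfsg.Agent.SporadicA.Co1Simple
open Cfsg.Agent.CoOneType
open Cfsg.Agent.CoOneType.CoOneE (pr pr_surjective E mem_E pr_eq_iff)
open Cfsg.Agent.SporadicStructure.Co0Base (e8 e8_coe)
open Cfsg.Agent.MonsterU.Lam2 (L2 cl cl_surjective smul_cl bf bf_cl_eq_zero IsType type_cases qf qf_add bf_comm
  bf_self bf_add_left bf_smul1 qf_smul1 bf_zero_left bf_zero_right add_self)
open Cfsg.Agent.MonsterU.CoFrame (V23 hw hw_apply mem_V23_of_one)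
open Cfsg.Agent.MonsterU.CoFrameAct (hw_sign_sub perm_coe sign_coe coe_sub')
open Cfsg.Agent.MonsterU.CoFrameL2 (f0 W23 cl_mem_W23 mem_W23_iff_bf pr_smul_cl mem_F_iff)
open Cfsg.Agent.MonsterU.CoFrameF (F toM24 toM24_eq toM24_eq_one_iff exists_of_mem_F)
open Cfsg.Spor (Co1)

/-- an odd vector of norm 32 has exactly one coordinate `± 3` -/
theorem odd_special {w : GolayPt → ℤ} (hn : sqNorm w = 32) (ho : ∀ i, ¬ (2 : ℤ) ∣ w i) :
    ∃ i, w i ^ 2 ≠ 1 ∧ ∀ j, w j ^ 2 ≠ 1 → j = i := by
  have hcard : Finset.card (Finset.univ : Finset GolayPt) = 24 := by rfl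
  have h9 : ∀ i, w i ^ 2 ≠ 1 → 9 ≤ w i ^ 2 := by
    intro i hi
    have h1 := ho i
    have h2 : w i ≠ 1 := by rintro h; rw [h] at hi; norm_num at hi
    have h3 : w i ≠ -1 := by rintro h; rw [h] at hi; norm_num at hi
    have h4 : 3 ≤ w i ∨ w i ≤ -3 := by omega
    rcases h4 with h4 | h4 <;> nlinarith
  have h1 : ∀ i, 1 ≤ w i ^ 2 := by
    intro i
    by_cases h : w i ^ 2 = 1
    · rw [h]
    · linarith [h9 i h]
  have hsum : ∑ i, w i ^ 2 = 32 := hn
  have hex : ∃ i, w i ^ 2 ≠ 1 := by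
    by_contra hno
    push Not at hno
    rw [Finset.sum_congr rfl fun i _ => hno i, Finset.sum_const, hcard] at hsum
    norm_num at hsum
  obtain ⟨i, hi⟩ := hex
  refine ⟨i, hi, fun j hj => ?_⟩
  by_contra hne
  have h2 : ∑ k, (w k ^ 2 - 1) = 8 := by
    rw [Finset.sum_sub_distrib, hsum, Finset.sum_const, hcard]
    norm_num
  have h3 : ∑ k ∈ ({i, j} : Finset GolayPt), (w k ^ 2 - 1) ≤ ∑ k, (w k ^ 2 - 1) :=
    Finset.sum_le_sum_of_subset_of_nonneg (Finset.subset_univ _) fun k _ _ => by linarith [h1 k]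
  rw [Finset.sum_pair (Ne.symm hne), h2] at h3
  linarith [h9 i hi, h9 j hj]

/-- case of a frame -/
theorem card_dvd_frame (T : Subgroup Co1) {v : L2} (hv : IsType 2 v) (hb : bf v f0 = 1)
    (hTv : ∀ t ∈ T, t • v = v) (hTx : ∀ t ∈ T, t • f0 = f0) : Nat.card T ∣ 10200960 := by
  obtain ⟨w, hw, rfl⟩ := hv
  replace hw : sqNorm (w : GolayPt → ℤ) = 32 := by rw [hw]; norm_num
  have hwV : w ∉ V23 := by
    intro h
    rw [← cl_mem_W23, mem_W23_iff_bf, hb] at h
    exact one_ne_zero h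
  have ho : ∀ i, ¬ (2 : ℤ) ∣ (w : GolayPt → ℤ) i := fun i h => hwV (mem_V23_of_one h)
  obtain ⟨i, hi, huniq⟩ := odd_special hw ho
  have hTF : T ≤ F := fun t ht => (mem_F_iff t).2 (hTx t ht)
  have key : ∀ (c : golayCode) (σ : M24), pr (signCo0 c * permCo0 σ) • cl w = cl w →
      (signCo0 c * permCo0 σ) • w = w ∨ (signCo0 c * permCo0 σ) • w = -w := by
    intro c σ h
    rw [pr_smul_cl] at h
    refine MonsterU.Fused.eq_or_neg ?_ hw h
    rw [Cfsg.Agent.Leech.FrameAux.co0_sqNorm, hw]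
  let φ : T →* M24 := toM24.comp (Subgroup.inclusion hTF)
  have hφ : ∀ t, φ t = toM24 ⟨t, hTF t.2⟩ := fun t => rfl
  have hinj : Function.Injective φ := by
    rw [injective_iff_map_eq_one]
    intro t ht
    rw [hφ, toM24_eq_one_iff] at ht
    obtain ⟨c, hc⟩ := (mem_E _).1 ht
    have h1 := key c 1 (by rw [map_one, mul_one, ← hc]; exact hTv t t.2)
    rw [map_one, mul_one] at h1
    have h2 := hw_sign_sub hwV c
    apply Subtype.ext
    change (t : Co1) = 1
    have h3 : pr (signCo0 c) = 1 := by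
      rcases h1 with h1 | h1
      · rw [h1, sub_self] at h2
        have h4 : c = 0 := by
          apply Subtype.ext
          rw [← h2]
          funext j
          rw [hw_apply]
          rfl
        rw [h4, signCo0_zero, map_one]
      · rw [h1] at h2
        have h4 : c = allOne := by
          apply Subtype.ext
          rw [← h2]
          funext j
          rw [hw_apply, coe_sub']
          have h5 : ((-w : leechLattice) : GolayPt → ℤ) j = -(w : GolayPt → ℤ) j := rfl
          have h6 := ho j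
          rw [h5]
          have h7 : (-(w : GolayPt → ℤ) j - (w : GolayPt → ℤ) j) / 2 = -(w : GolayPt → ℤ) j := by omega
          rw [h7]
          have h8 := (ZMod.intCast_eq_intCast_iff_dvd_sub (-(w : GolayPt → ℤ) j) 1 2).2
            (by push_cast; omega)
          rw [h8]; rfl
        rw [h4]
        exact MonsterU.CoFrameF.pr_eq_one.2 (Or.inr rfl)
    rw [← h3, ← hc]
  have hr : φ.range ≤ MulAction.stabilizer M24 i := by
    rintro _ ⟨t, rfl⟩
    obtain ⟨c, σ, hcs⟩ := exists_of_mem_F (hTF t.2)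
    have h1 := key c σ (by rw [← hcs]; exact hTv t t.2)
    rw [hφ, toM24_eq (x := ⟨t, hTF t.2⟩) hcs, MulAction.mem_stabilizer_iff]
    have h2 : ∀ j, ((w : GolayPt → ℤ) ((σ : Equiv.Perm GolayPt).symm j)) ^ 2 = ((w : GolayPt → ℤ) j) ^ 2 := by
      intro j
      have h3 : (((signCo0 c * permCo0 σ) • w : leechLattice) : GolayPt → ℤ) j ^ 2 = ((w : GolayPt → ℤ) j) ^ 2 := by
        rcases h1 with h1 | h1
        · rw [h1]
        · rw [h1]
          change (-(w : GolayPt → ℤ) j) ^ 2 = _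
          ring
      rw [mul_smul, sign_coe, perm_coe] at h3
      split_ifs at h3
      · rw [← h3]; ring
      · exact h3
    have h3 := huniq ((σ : Equiv.Perm GolayPt).symm i) (by rw [h2]; exact hi)
    change (σ : Equiv.Perm GolayPt) i = i
    exact ((Equiv.symm_apply_eq _).1 h3).symm
  rw [Nat.card_congr (MonoidHom.ofInjective hinj).toEquiv, ← Cfsg.Agent.S0376.result i]
  exact Subgroup.card_dvd_of_le hr

/-- the other case -/
theorem card_dvd_tri (T : Subgroup Co1) {v x : L2} (hv : IsType 2 v) (hx : IsType 2 x) (hb : bf x v = 1)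
    (hTv : ∀ t ∈ T, t • v = v) (hTx : ∀ t ∈ T, t • x = x) : Nat.card T ∣ 898128000 := by
  classical
  obtain ⟨a, ha, rfl⟩ := hv
  obtain ⟨b, hbn, rfl⟩ := hx
  replace ha : sqNorm (a : GolayPt → ℤ) = 32 := by rw [ha]; norm_num
  replace hbn : sqNorm (b : GolayPt → ℤ) = 32 := by rw [hbn]; norm_num
  -- choose the sign of `b`
  have hd : ∃ b' : leechLattice, cl b' = cl b ∧ sqNorm (b' : GolayPt → ℤ) = 32 ∧
      dotInt (a : GolayPt → ℤ) (b' : GolayPt → ℤ) = -8 := by
    have h16 : ¬ (16 : ℤ) ∣ dotInt (b : GolayPt → ℤ) (a : GolayPt → ℤ) := by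
      intro h
      rw [← bf_cl_eq_zero, hb] at h
      exact one_ne_zero h
    have h8 := MonsterU.Lam2.dvd_dot a b
    have hcomm : dotInt (b : GolayPt → ℤ) (a : GolayPt → ℤ) = dotInt (a : GolayPt → ℤ) (b : GolayPt → ℤ) := by
      unfold dotInt
      exact Finset.sum_congr rfl fun i _ => mul_comm _ _
    rw [hcomm] at h16
    have hs : sqNorm ((a - b : leechLattice) : GolayPt → ℤ) = 64 - 2 * dotInt (a : GolayPt → ℤ) (b : GolayPt → ℤ) := by
      have e : sqNorm ((a - b : leechLattice) : GolayPt → ℤ) =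
          sqNorm (a : GolayPt → ℤ) + sqNorm (b : GolayPt → ℤ) - 2 * dotInt (a : GolayPt → ℤ) (b : GolayPt → ℤ) := by
        rw [sqNorm, sqNorm, sqNorm, dotInt, Finset.mul_sum, ← Finset.sum_add_distrib, ← Finset.sum_sub_distrib]
        refine Finset.sum_congr rfl fun i _ => ?_
        rw [AddSubgroup.coe_sub, Pi.sub_apply]
        ring
      rw [e, ha, hbn]
      ring
    have hp : sqNorm ((a + b : leechLattice) : GolayPt → ℤ) = 64 + 2 * dotInt (a : GolayPt → ℤ) (b : GolayPt → ℤ) := by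
      have e : sqNorm ((a + b : leechLattice) : GolayPt → ℤ) =
          sqNorm (a : GolayPt → ℤ) + sqNorm (b : GolayPt → ℤ) + 2 * dotInt (a : GolayPt → ℤ) (b : GolayPt → ℤ) := by
        rw [sqNorm, sqNorm, sqNorm, dotInt, Finset.mul_sum, ← Finset.sum_add_distrib, ← Finset.sum_add_distrib]
        refine Finset.sum_congr rfl fun i _ => ?_
        rw [AddSubgroup.coe_add, Pi.add_apply]
        ring
      rw [e, ha, hbn]
      ring
    have hself : dotInt (a : GolayPt → ℤ) (a : GolayPt → ℤ) = 32 := by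
      rw [← ha]
      unfold dotInt sqNorm
      exact Finset.sum_congr rfl fun i _ => by ring
    have h1 : 32 ≤ sqNorm ((a - b : leechLattice) : GolayPt → ℤ) := by
      rcases MonsterU.InvPair.norm_cases (a - b) with h | h
      · exfalso
        rw [sub_eq_zero] at h
        rw [← h, hself] at h16
        exact h16 (by norm_num)
      · exact h
    have h2 : 32 ≤ sqNorm ((a + b : leechLattice) : GolayPt → ℤ) := by
      rcases MonsterU.InvPair.norm_cases (a + b) with h | h
      · exfalso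
        have h3 : b = -a := by rw [← add_left_inj a, neg_add_cancel, add_comm]; exact h
        rw [h3] at h16
        have h4 : dotInt (a : GolayPt → ℤ) ((-a : leechLattice) : GolayPt → ℤ) = -32 := by
          rw [← hself]
          unfold dotInt
          rw [← Finset.sum_neg_distrib]
          refine Finset.sum_congr rfl fun i _ => ?_
          change (a : GolayPt → ℤ) i * (-(a : GolayPt → ℤ) i) = _
          ring
        rw [h4] at h16
        exact h16 (by norm_num)
      · exact h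
    rw [hs] at h1
    rw [hp] at h2
    obtain ⟨k, hk⟩ := h8
    rw [hk] at h1 h2 h16
    have hk1 : k = 1 ∨ k = -1 := by
      have h3 : k ≤ 2 := by omega
      have h4 : -2 ≤ k := by omega
      have h5 : ¬ (2 : ℤ) ∣ k := fun ⟨m, hm⟩ => h16 ⟨m, by rw [hm]; ring⟩
      omega
    rcases hk1 with rfl | rfl
    · refine ⟨-b, MonsterU.Lam2.cl_neg b, ?_, ?_⟩
      · rw [← hbn]
        unfold sqNorm
        refine Finset.sum_congr rfl fun i _ => ?_
        change (-(b : GolayPt → ℤ) i) ^ 2 = _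
        ring
      · have h3 : dotInt (a : GolayPt → ℤ) ((-b : leechLattice) : GolayPt → ℤ) =
            - dotInt (a : GolayPt → ℤ) (b : GolayPt → ℤ) := by
          unfold dotInt
          rw [← Finset.sum_neg_distrib]
          refine Finset.sum_congr rfl fun i _ => ?_
          change (a : GolayPt → ℤ) i * (-(b : GolayPt → ℤ) i) = _
          ring
        rw [h3, hk]
        norm_num
    · exact ⟨b, rfl, hbn, by rw [hk]; norm_num⟩
  obtain ⟨b', hcb, hb32, hab⟩ := hd
  rw [← hcb] at hTx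
  have hM := (Cfsg.Agent.S0404.result a b' ha hb32 hab).2
  have hle : T ≤ (MulAction.stabilizer Co0 a ⊓ MulAction.stabilizer Co0 b').map pr := by
    intro t ht
    have hgt : ∃ g : Co0, pr g = t ∧ g • a = a := by
      obtain ⟨g, rfl⟩ := pr_surjective t
      have h1 := hTv _ ht
      rw [pr_smul_cl] at h1
      rcases MonsterU.Fused.eq_or_neg (by rw [Cfsg.Agent.Leech.FrameAux.co0_sqNorm, ha]) ha h1 with h2 | h2
      · exact ⟨g, rfl, h2⟩
      · refine ⟨g * signCo0 allOne, ((pr_eq_iff _ _).2 (Or.inr rfl)).symm, ?_⟩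
        rw [mul_smul, allOne_smul, Cfsg.Agent.SporadicA.Co0Mono.smul_neg, h2, neg_neg]
    obtain ⟨g, rfl, hga⟩ := hgt
    have h1 := hTx _ ht
    rw [pr_smul_cl] at h1
    refine ⟨g, ⟨hga, ?_⟩, rfl⟩
    rcases MonsterU.Fused.eq_or_neg (by rw [Cfsg.Agent.Leech.FrameAux.co0_sqNorm, hb32]) hb32 h1 with h2 | h2
    · exact h2
    · exfalso
      have h3 := Cfsg.Agent.Leech.FrameAux.co0_dot g a b'
      rw [hga, h2] at h3
      have h4 : dotInt (a : GolayPt → ℤ) ((-b' : leechLattice) : GolayPt → ℤ) =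
          - dotInt (a : GolayPt → ℤ) (b' : GolayPt → ℤ) := by
        unfold dotInt
        rw [← Finset.sum_neg_distrib]
        refine Finset.sum_congr rfl fun i _ => ?_
        change (a : GolayPt → ℤ) i * (-(b' : GolayPt → ℤ) i) = _
        ring
      rw [h4, hab] at h3
      norm_num at h3
  rw [← hM]
  exact (Subgroup.card_dvd_of_le hle).trans (Subgroup.card_map_dvd _ _)

/-- a 2-group -/
theorem le_of_dvd {n : ℕ} {T : Subgroup Co1} (hT : IsPGroup 2 T) (h : Nat.card T ∣ 2 ^ 7 * n) (hn : ¬ 2 ∣ n) :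
    Nat.card T ∣ 2 ^ 7 := by
  have hfin : Finite Co1 := Nat.finite_of_card_ne_zero (by rw [MonsterU.CoFrameF.card_Co1]; norm_num)
  obtain ⟨k, hk⟩ := IsPGroup.iff_card.1 hT
  rw [hk] at h ⊢
  exact Nat.Coprime.dvd_of_dvd_mul_right
    (Nat.Coprime.pow_left k ((Nat.Prime.coprime_iff_not_dvd Nat.prime_two).2 hn)) h

theorem dvd_of_type (T : Subgroup Co1) (hT : IsPGroup 2 T) {v x : L2} (hv : IsType 2 v)
    (hx : IsType 2 x ∨ IsType 4 x) (hb : bf x v = 1)
    (hTv : ∀ t ∈ T, t • v = v) (hTx : ∀ t ∈ T, t • x = x) : Nat.card T ∣ 2 ^ 7 := by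
  rcases hx with hx | hx
  · exact le_of_dvd (n := 7016625) hT (card_dvd_tri T hv hx hb hTv hTx) (by norm_num)
  · have hf0 : IsType 4 f0 := ⟨e8 none, sqNorm_e8 none, rfl⟩
    obtain ⟨g, hg⟩ := IsType.trans (Or.inr (Or.inr rfl)) hx hf0
    have hg' : pr g • x = f0 := hg
    have hv' : IsType 2 (pr g • v) := hv.smul1 _
    have h1 : Nat.card (T.map (MulAut.conj (pr g)).toMonoidHom) ∣ 10200960 := by
      refine card_dvd_frame _ hv' ?_ ?_ ?_
      · rw [← hg', bf_smul1, bf_comm, hb]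
      · rintro _ ⟨t, ht, rfl⟩
        change (pr g * t * (pr g)⁻¹) • pr g • v = pr g • v
        rw [mul_smul, mul_smul, inv_smul_smul, hTv t ht]
      · rintro _ ⟨t, ht, rfl⟩
        change (pr g * t * (pr g)⁻¹) • f0 = f0
        rw [← hg', mul_smul, mul_smul, inv_smul_smul, hTx t ht]
    rw [Subgroup.card_map_of_injective (MulAut.conj (pr g)).injective] at h1
    exact le_of_dvd (n := 79695) hT h1 (by norm_num)

theorem qf_three {x : L2} (h : IsType 3 x) : qf x = 1 := by
  obtain ⟨w, hw, rfl⟩ := h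
  have h1 : qf (cl w) ≠ 0 := by
    rw [ne_eq, MonsterU.Lam2.qf_cl_eq_zero, hw]
    norm_num
  have c : ∀ a : ZMod 2, a ≠ 0 → a = 1 := by decide
  exact c _ h1

theorem qf_two {x : L2} (h : IsType 2 x) : qf x = 0 := by
  obtain ⟨w, hw, rfl⟩ := h
  rw [MonsterU.Lam2.qf_cl_eq_zero, hw]
  norm_num

/-- **ORB**, with divisibility. -/
theorem card_dvd (T : Subgroup Co1) (hT : IsPGroup 2 T) {v x : L2} (hv : IsType 2 v) (hb : bf x v = 1)
    (hTv : ∀ t ∈ T, t • v = v) (hTx : ∀ t ∈ T, t • x = x) : Nat.card T ∣ 2 ^ 7 := by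
  have c : ∀ a : ZMod 2, a ≠ 0 → a = 1 := by decide
  rcases type_cases x with rfl | h | h | h
  · rw [bf_zero_left] at hb
    exact absurd hb zero_ne_one
  · exact dvd_of_type T hT hv (Or.inl h) hb hTv hTx
  · have hb' : bf (x + v) v = 1 := by rw [bf_add_left, hb, bf_self, add_zero]
    have hq : qf (x + v) = 0 := by
      rw [qf_add, qf_three h, qf_two hv, hb]
      rfl
    have hTx' : ∀ t ∈ T, t • (x + v) = x + v := fun t ht => by rw [smul_add, hTx t ht, hTv t ht]
    rcases type_cases (x + v) with h' | h' | h' | h'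
    · rw [h', bf_zero_left] at hb'
      exact absurd hb' zero_ne_one
    · exact dvd_of_type T hT hv (Or.inl h') hb' hTv hTx'
    · rw [qf_three h'] at hq
      exact absurd hq one_ne_zero
    · exact dvd_of_type T hT hv (Or.inr h') hb' hTv hTx'
  · exact dvd_of_type T hT hv (Or.inr h) hb hTv hTx

/-- **ORB.** A 2-subgroup of `Co1` fixing `v` of type 2 and `x` modulo `v`, where `bf x v = 1`, has order at most `2 ^ 7`. -/
theorem card_le (T : Subgroup Co1) (hT : IsPGroup 2 T) {v x : L2} (hv : IsType 2 v) (hb : bf x v = 1)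
    (hTv : ∀ t ∈ T, t • v = v) (hTx : ∀ t ∈ T, t • x = x ∨ t • x = x + v) :
    (∀ t ∈ T, t • x = x) ∧ Nat.card T ∣ 2 ^ 7 ∧ Nat.card T ≤ 2 ^ 7 := by
  have h1 : ∀ t ∈ T, t • x = x := by
    intro t ht
    rcases hTx t ht with h | h
    · exact h
    · exfalso
      have h2 := qf_smul1 t x
      rw [h, qf_add, qf_two hv, hb, add_zero] at h2
      have c : ∀ a : ZMod 2, a + 1 ≠ a := by decide
      exact c _ h2
  have h2 := card_dvd T hT hv hb hTv h1
  exact ⟨h1, h2, Nat.le_of_dvd (by norm_num) h2⟩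

end Cfsg.Agent.H692.TwoB
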